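import Groth.Agent.Lib.ExtFin9.Linear
import Groth.Agent.Lib.RHom.PCoh
import Groth.Agent.Lib.RHom.Compact
import Groth.Agent.Lib.SiteCoh.ModuleExt
import Groth.Agent.Lib.DPerf.Noeth
import Groth.Agent.Lib.CohFound.ProperFinite
import Mathlib.Algebra.Homology.DerivedCategory.Ext.Linear
import Mathlib.RingTheory.Noetherian.Basic

/-! Maps between coherent objects on a proper scheme form finite modules. -/

set_option autoImplicit false
set_option linter.unusedSectionVars false
set_option linter.style.haveILetI false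
set_option backward.isDefEq.respectTransparency false
set_option backward.isDefEq.respectTransparency.types false

universe u

open CategoryTheory CategoryTheory.Limits CategoryTheory.Pretriangulated AlgebraicGeometry Opposite
open CategoryTheory.Triangulated DerivedCategory.TStructure

attribute [local instance] HasDerivedCategory.standard

namespace Groth.Agent.ExtFin9

variable (A : Type u) [CommRing A] {X : Scheme.{u}} [X.Over (Spec (CommRingCat.of A))]

section Unit

variable [HasExt.{u} X.Modules]

open Abelian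

theorem map_extCompHom_smul (N : X.Modules) (n : ℕ) (a : A) (x : Ext.{u} (Coh.structureModule X) N n)
    [PreservesFiniteColimits (SheafOfModules.toSheaf X.ringCatSheaf)] :
    SiteCoh.extCompHom (R := SheafOfModules.toSheaf X.ringCatSheaf) (SiteCoh.oneSheafMap X.ringCatSheaf) N n
        (a • x) =
      Sheaf.H.map (Coh.smulAb N (Coh.toGlobal (X ↘ Spec (CommRingCat.of A)) a)) n
        (SiteCoh.extCompHom (R := SheafOfModules.toSheaf X.ringCatSheaf) (SiteCoh.oneSheafMap X.ringCatSheaf) N n
          x) := by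
  rw [Ext.smul_eq_comp_mk₀, SiteCoh.extCompHom_comp, Ext.mapExactFunctor_mk₀, KLin.smul_id,
    Sheaf.H.map_apply]
  rfl

/-- Cohomology as maps out of the structure sheaf, linearly. -/
theorem exists_ext_linearEquiv (N : X.Modules) (n : ℕ) :
    Nonempty (Ext.{u} (Coh.structureModule X) N n ≃ₗ[A] Coh.HH X N n) := by
  haveI : PreservesFiniteColimits (SheafOfModules.toSheaf X.ringCatSheaf) :=
    haveI : PreservesColimitsOfSize.{u, u} (SheafOfModules.toSheaf X.ringCatSheaf) := ⟨inferInstance⟩
    PreservesColimitsOfSize.preservesFiniteColimits _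
  let e : Ext.{u} (Coh.structureModule X) N n ≃+ Coh.HH X N n := AddEquiv.ofBijective _
    (SiteCoh.bijective_extCompHom (R := SheafOfModules.toSheaf X.ringCatSheaf)
      (SiteCoh.oneSheafMap X.ringCatSheaf) (SiteCoh.bijective_oneSheafMap X.ringCatSheaf)
      (fun I hI k => SiteCoh.subsingleton_H_of_totallyAcyclic
        (SiteCoh.isTotallyAcyclic_injective X.ringCatSheaf I) k) n N)
  exact ⟨{ e with map_smul' := fun a x => map_extCompHom_smul A N n a x }⟩

end Unit

variable [IsNoetherianRing A] [IsProper (X ↘ Spec (CommRingCat.of A))]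

/-- Shifted maps from the structure sheaf to a coherent sheaf. -/
theorem finite_hom_single (N : X.Modules) (hN : Coh.IsCoh N) (m : ℤ) :
    Module.Finite A (DCoh.inD X (Coh.structureModule X) ⟶ (DCoh.inD X N)⟦m⟧) := by
  haveI : HasExt.{u} X.Modules := inferInstance
  by_cases hm : m < 0
  · haveI : DerivedCategory.IsGE ((DCoh.inD X N)⟦m⟧) (-m) :=
      DerivedCategory.TStructure.t.isGE_shift _ 0 m (-m) (by omega)
    haveI : Subsingleton (DCoh.inD X (Coh.structureModule X) ⟶ (DCoh.inD X N)⟦m⟧) :=
      ⟨fun f g => (t.zero f 0 (-m) (by omega)).trans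
        (t.zero g 0 (-m) (by omega)).symm⟩
    infer_instance
  · obtain ⟨n, rfl⟩ := Int.eq_ofNat_of_zero_le (not_lt.1 hm)
    haveI := CohFound.finite_HH_of_isProper (A := A) N hN n
    obtain ⟨e⟩ := exists_ext_linearEquiv A N n
    exact Module.Finite.equiv (e.symm.trans (Abelian.Ext.homLinearEquiv (R := A)))

variable {A} in
/-- Finite ends give a finite middle. -/
theorem finite_of_exact {V W Z : Type*} [AddCommGroup V] [Module A V] [AddCommGroup W] [Module A W]
    [AddCommGroup Z] [Module A Z] [Module.Finite A V] [Module.Finite A Z] (f : V →ₗ[A] W) (g : W →ₗ[A] Z)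
    (h : ∀ w, g w = 0 → ∃ v, f v = w) (h' : ∀ v, g (f v) = 0) : Module.Finite A W := by
  have : IsNoetherian A W := isNoetherian_of_range_eq_ker f g
    (SetLike.ext fun w => ⟨fun hw => by obtain ⟨v, rfl⟩ := hw; exact h' v, fun hw => h w hw⟩)
  exact Module.IsNoetherian.finite A W

/-- Maps from the structure sheaf into bounded coherent objects. -/
theorem finite_hom_bdd : ∀ (d : ℕ) (c : ℤ) (M : DCoh.D X), DCoh.IsCohD M → M.IsGE c → M.IsLE (c + d - 1) →
    Module.Finite A (DCoh.inD X (Coh.structureModule X) ⟶ M)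
  | 0, c, M, _, hge, hle => by
    haveI : DerivedCategory.IsLE M (c - 1) := by simpa using hle
    haveI := hge
    have h0 : 𝟙 M = 0 := t.zero (𝟙 M) (c - 1) c (by omega)
    haveI : Subsingleton (DCoh.inD X (Coh.structureModule X) ⟶ M) :=
      ⟨fun f g => by rw [← Category.comp_id f, ← Category.comp_id g, h0, comp_zero, comp_zero]⟩
    infer_instance
  | d + 1, c, M, hc, hge, hle => by
    haveI := hle
    haveI : DerivedCategory.TStructure.t.IsGE M c := hge
    let T := (t.triangleLTGE (c + 1)).obj M
    have hπ := fun i (hi : c + 1 ≤ i) => DerTrunc.isIso_homology_truncGEπ M (c + 1) i hi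
    have hι := fun i (hi : i < c + 1) => DerTrunc.isIso_homology_truncLTι M (c + 1) i hi
    haveI h₁ : DerivedCategory.IsLE ((t.truncLT (c + 1)).obj M) c := t.isLE_truncLT_obj M (c + 1) c le_rfl
    haveI h₁' : DerivedCategory.IsGE ((t.truncLT (c + 1)).obj M) c :=
      (inferInstance : t.IsGE ((t.truncLT (c + 1)).obj M) c)
    haveI h₂ : DerivedCategory.IsGE ((t.truncGE (c + 1)).obj M) (c + 1) :=
      (inferInstance : t.IsGE ((t.truncGE (c + 1)).obj M) (c + 1))
    haveI : Module.Finite A (DCoh.inD X (Coh.structureModule X) ⟶ (t.truncLT (c + 1)).obj M) := by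
      obtain ⟨Y, ⟨e⟩, ⟨e'⟩⟩ := DPerf.exists_single_of_concentrated (K := (t.truncLT (c + 1)).obj M) c
      haveI := hι c (lt_add_one c)
      have hY : Coh.IsCoh Y := CohFound.isCoh_of_iso (e' ≪≫
        asIso ((DerivedCategory.homologyFunctor _ c).map ((t.truncLTι (c + 1)).app M))).symm (hc c)
      haveI := finite_hom_single A Y hY (-c)
      let e'' : (DCoh.inD X Y)⟦-c⟧ ≅ (t.truncLT (c + 1)).obj M :=
        (shiftFunctor _ (-c)).mapIso e.symm ≪≫ ((shiftEquiv (DCoh.D X) c).unitIso.app _).symm
      exact Module.Finite.equiv (Linear.homCongr A (Iso.refl _) e'')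
    haveI : Module.Finite A (DCoh.inD X (Coh.structureModule X) ⟶ (t.truncGE (c + 1)).obj M) := by
      refine finite_hom_bdd d (c + 1) _ (fun i => ?_) h₂ ((DerivedCategory.isLE_iff _ _).2 fun i hi => ?_)
      · by_cases hi : c + 1 ≤ i
        · haveI := hπ i hi
          exact CohFound.isCoh_of_iso
            (asIso ((DerivedCategory.homologyFunctor _ i).map ((t.truncGEπ (c + 1)).app M))) (hc i)
        · exact DPerf.isCoh_of_isZero (DerivedCategory.isZero_of_isGE _ (c + 1) i (by omega))
      · haveI := hπ i (by omega)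
        exact (DerivedCategory.isZero_of_isLE M (c + (d + 1 : ℕ) - 1) i (by push_cast; omega)).of_iso
          (asIso ((DerivedCategory.homologyFunctor _ i).map ((t.truncGEπ (c + 1)).app M))).symm
    refine finite_of_exact (Linear.rightComp A _ ((t.truncLTι (c + 1)).app M))
      (Linear.rightComp A _ ((t.truncGEπ (c + 1)).app M)) (fun w hw => ?_) fun v => ?_
    · obtain ⟨v, hv⟩ := Triangle.coyoneda_exact₂ _ (t.triangleLTGE_distinguished (c + 1) M) w hw
      exact ⟨v, hv.symm⟩
    · change (v ≫ (t.truncLTι (c + 1)).app M) ≫ (t.truncGEπ (c + 1)).app M = 0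
      rw [Category.assoc, show (t.truncLTι (c + 1)).app M ≫ (t.truncGEπ (c + 1)).app M = 0 from
        comp_distTriang_mor_zero₁₂ _ (t.triangleLTGE_distinguished (c + 1) M), comp_zero]

/-- Maps from the structure sheaf into coherent objects bounded below. -/
theorem finite_hom_unit (M : DCoh.D X) (a : ℤ) [M.IsGE a] (hM : DCoh.IsCohD M) :
    Module.Finite A (DCoh.inD X (Coh.structureModule X) ⟶ M) := by
  let c := max a 1
  haveI : DerivedCategory.IsGE M a := inferInstance
  haveI : DerivedCategory.TStructure.t.IsGE M a := inferInstanceAs (M.IsGE a)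
  have hι := fun i (hi : i < c) => DerTrunc.isIso_homology_truncLTι M c i hi
  haveI h₁ : DerivedCategory.IsLE ((t.truncLT c).obj M) (c - 1) := t.isLE_truncLT_obj M c (c - 1) (by omega)
  haveI : Module.Finite A (DCoh.inD X (Coh.structureModule X) ⟶ (t.truncLT c).obj M) := by
    refine finite_hom_bdd A (c - a).toNat a _ (fun i => ?_) (inferInstance : t.IsGE _ a)
      ((DerivedCategory.isLE_iff _ _).2 fun i hi => DerivedCategory.isZero_of_isLE _ (c - 1) i (by omega))
    by_cases hi : i < c
    · haveI := hι i hi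
      exact CohFound.isCoh_of_iso
        (asIso ((DerivedCategory.homologyFunctor _ i).map ((t.truncLTι c).app M))).symm (hM i)
    · exact DPerf.isCoh_of_isZero (DerivedCategory.isZero_of_isLE _ (c - 1) i (by omega))
  refine Module.Finite.of_surjective (Linear.rightComp A _ ((t.truncLTι c).app M)) fun w => ?_
  haveI : DerivedCategory.IsGE ((t.truncGE c).obj M) c := (inferInstance : t.IsGE ((t.truncGE c).obj M) c)
  obtain ⟨v, hv⟩ := Triangle.coyoneda_exact₂ _ (t.triangleLTGE_distinguished c M) w
    (t.zero _ 0 c (by omega))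
  exact ⟨v, hv.symm⟩

/-- Maps between coherent objects on a proper scheme. -/
theorem finite_hom (K L : DCoh.D X) (hK : DCoh.IsCohD K) (b : ℤ) [K.IsLE b] (hL : DCoh.IsCohD L) (a : ℤ)
    [L.IsGE a] : Module.Finite A (K ⟶ L) := by
  haveI := CohFound.isNoetherian_of_isProper (X ↘ Spec (CommRingCat.of A))
  let E := DerivedCategory.Q.objPreimage K
  let eK : DerivedCategory.Q.obj E ≅ K := DerivedCategory.Q.objObjPreimageIso K
  haveI := KFlat.Sch.hasLTensorCx E
  haveI := RHom.hasRSheafHom E
  haveI : (DCoh.toD X E).IsLE b :=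
    DerivedCategory.TStructure.t.isLE_of_iso eK.symm b
  have hE : DCoh.IsCohD (DCoh.toD X E) := fun i =>
    CohFound.isCoh_of_iso ((DerivedCategory.homologyFunctor X.Modules i).mapIso eK.symm) (hK i)
  obtain ⟨a', ha'⟩ : ∃ a', ((DCoh.RSheafHom E).obj L).IsGE a' := ⟨a - b, RHom.isGE_rhom E b inferInstance L a⟩
  haveI := ha'
  have hR : DCoh.IsCohD ((DCoh.RSheafHom E).obj L) := fun j => RHom.isCoh_HD_rhom E L a
    (DPerf.isPseudoCoherentD_of_coherent (m := a - j - 1) (fun i _ => hE i) b) hL j (by omega)
  haveI : IsIso ((RHom.ltCounit E).app (RHom.sg 0 (Coh.structureModule X))) :=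
    RHom.isIso_counit_kflat E _ (RHom.isKFlat_sgOne 0)
  let u₀ : (DCoh.LTensorCx E).obj (DCoh.inD X (Coh.structureModule X)) ≅ K :=
    (DCoh.LTensorCx E).mapIso ((DerivedCategory.singleFunctorIsoCompQ X.Modules 0).app _) ≪≫
    asIso ((RHom.ltCounit E).app (RHom.sg 0 (Coh.structureModule X))) ≪≫
      DerivedCategory.Q.mapIso (RHom.lunit.app E) ≪≫ eK
  haveI := linear_RSheafHom A E
  haveI : (DCoh.LTensorCx E).Additive := inferInstance
  let adj := DCoh.RSheafHomAdj E
  let φ : (K ⟶ L) ≃ₗ[A] (DCoh.inD X (Coh.structureModule X) ⟶ (DCoh.RSheafHom E).obj L) :=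
    { (u₀.symm.homFromEquiv).trans (adj.homEquiv _ _) with
      map_add' := fun f g => by
        show adj.homEquiv _ _ (u₀.hom ≫ (f + g)) = _
        rw [Preadditive.comp_add]
        exact (adj.homAddEquiv _ _).map_add _ _
      map_smul' := fun r f => by
        show adj.homEquiv _ _ (u₀.hom ≫ (r • f)) = r • adj.homEquiv _ _ (u₀.hom ≫ f)
        rw [Linear.comp_smul, adj.homEquiv_unit, adj.homEquiv_unit, Functor.map_smul, Linear.comp_smul] }
  haveI := finite_hom_unit A ((DCoh.RSheafHom E).obj L) a' hR
  exact Module.Finite.equiv φ.symm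

end Groth.Agent.ExtFin9
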