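import Groth.Agent.Lib.RHom.Exist
import Groth.Agent.Lib.RHom.LeftUnit
import Groth.Agent.Lib.DerNull9.Hom
import Groth.Prelude.Def_KLin

/-! Linearity of derived tensor and internal hom over a base ring. -/

set_option autoImplicit false
set_option linter.unusedSectionVars false
set_option linter.style.haveILetI false
set_option backward.isDefEq.respectTransparency false
set_option backward.isDefEq.respectTransparency.types false

universe u

open CategoryTheory CategoryTheory.Limits AlgebraicGeometry Opposite

attribute [local instance] HasDerivedCategory.standard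

namespace Groth.Agent.ExtFin9

variable (A : Type u) [CommRing A] {X : Scheme.{u}} [X.Over (Spec (CommRingCat.of A))]

/-- The image of a scalar as a compatible family of sections. -/
noncomputable def scal (a : A) : DerComp.GSec (C := X.Opens) X.sheaf :=
  ⟨fun U => (X.presheaf.map (homOfLE (le_top : U ≤ ⊤)).op).hom
      (Coh.toGlobal (X ↘ Spec (CommRingCat.of A)) a),
    fun U V g => by
      show (X.presheaf.map g.op).hom ((X.presheaf.map (homOfLE (le_top : U ≤ ⊤)).op).hom _) = _
      rw [← CommRingCat.comp_apply, ← Functor.map_comp]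
      rfl⟩

theorem smulMod_eq (M : X.Modules) (a : A) :
    Formal.smulMod A M a = DerComp.smulEnd (C := X.Opens) (O := X.sheaf) (scal A a) M := rfl

theorem smul_eq {M N : X.Modules} (a : A) (f : M ⟶ N) :
    a • f = (Formal.smulMod A M a) ≫ f := rfl

theorem cx_smul_id (F : CochainComplex X.Modules ℤ) (a : A) :
    a • 𝟙 F =
      (scal (X := X) A a • 𝟙 (show CochainComplex (ModSite.Mod (C := X.Opens) X.sheaf) ℤ from F) :) := by
  refine HomologicalComplex.hom_ext _ _ fun n => ?_
  rfl

/-- Tensoring complexes is linear. -/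
theorem tcx_map_smul_id (E F : CochainComplex X.Modules ℤ) (a : A) :
    ((KFlat.tcx (KFlat.Sch.TX X)).flip.obj E).map (a • 𝟙 F) =
      a • 𝟙 (((KFlat.tcx (KFlat.Sch.TX X)).flip.obj E).obj F) := by
  rw [cx_smul_id, cx_smul_id]
  exact DerNull9.tensor_map_smul (C := X.Opens) (O := X.sheaf) E F (scal (X := X) A a)

/-- Derived tensor is linear. -/
theorem linear_LT (E : CochainComplex X.Modules ℤ) [DCoh.HasLTensorCx E] :
    (DCoh.LTensorCx E).Linear A := by
  refine (Functor.linear_iff A _).mpr fun K a => ?_
  obtain ⟨F, q, hF, hq⟩ := RHom.exists_kflat_res (DerivedCategory.Q.objPreimage K)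
  let e : DerivedCategory.Q.obj F ≅ K :=
    asIso (DerivedCategory.Q.map q) ≪≫ DerivedCategory.Q.objObjPreimageIso K
  have hK : (a • 𝟙 K : K ⟶ K) = e.inv ≫ DerivedCategory.Q.map (a • 𝟙 F) ≫ e.hom := by
    rw [Functor.map_smul, CategoryTheory.Functor.map_id, Linear.smul_comp, Category.id_comp, Linear.comp_smul,
      Iso.inv_hom_id]
  haveI := RHom.isIso_counit_kflat E F hF
  have hn : (DCoh.LTensorCx E).map (DerivedCategory.Q.map (a • 𝟙 F)) = a • 𝟙 _ := by
    rw [← cancel_mono ((RHom.ltCounit E).app F)]
    refine ((RHom.ltCounit E).naturality (a • 𝟙 F)).trans ?_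
    rw [Functor.comp_map, tcx_map_smul_id, Functor.map_smul, CategoryTheory.Functor.map_id, Linear.comp_smul,
      Linear.smul_comp, Category.id_comp]
    exact congrArg (a • ·) (Category.comp_id _)
  rw [hK, Functor.map_comp, Functor.map_comp, hn, Linear.smul_comp, Category.id_comp, Linear.comp_smul,
    ← Functor.map_comp, Iso.inv_hom_id, CategoryTheory.Functor.map_id]

/-- A right adjoint of a linear functor sends scalars to scalars. -/
theorem linear_of_adj {C D : Type*} [Category C] [Category D] [Preadditive C] [Preadditive D] [Linear A C]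
    [Linear A D] {L : C ⥤ D} {R : D ⥤ C} (adj : L ⊣ R) [L.Linear A] [L.Additive] : R.Linear A := by
  refine (Functor.linear_iff A _).mpr fun M a => (adj.homEquiv _ _).symm.injective ?_
  rw [adj.homEquiv_counit, adj.homEquiv_counit, adj.counit_naturality, Functor.map_smul, CategoryTheory.Functor.map_id,
    Linear.smul_comp, Category.id_comp, Linear.comp_smul, Category.comp_id]

/-- Internal hom is linear. -/
theorem linear_RSheafHom (E : CochainComplex X.Modules ℤ) [DCoh.HasLTensorCx E] [DCoh.HasRSheafHom E] :
    (DCoh.RSheafHom E).Linear A :=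
  haveI := linear_LT A E
  linear_of_adj A (DCoh.RSheafHomAdj E)

end Groth.Agent.ExtFin9
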